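import Groth.Agent.L22.WedgePair.Alg
import Groth.Agent.L22.CurveDeg.Det.ExtPow
import Groth.Agent.L16.HomSh.Basic
import Groth.Agent.L18.IsoCover
import Groth.Agent.L19.ProjBdl.Basis
import Groth.Agent.L16.HomSh.FreeFrames

/-!
`Hom(∧^a E, ∧^n E) ≅ ∧^b E` for `E` finite locally free of rank `n = a + b`.
-/

set_option autoImplicit false
set_option backward.isDefEq.respectTransparency false
set_option backward.isDefEq.respectTransparency.types false
universe u

open CategoryTheory CategoryTheory.Limits AlgebraicGeometry TopologicalSpace Opposite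

noncomputable section

namespace Groth.L22.WedgePair

open Groth.L18.Frame (rs ro rs_rs rs_smul ro_ro rs_self)
open Groth.L16.HomSh (homMod Sec ev ev_rs ev_smul ev_smulSec sec_ext ext_cover exists_glue secEquiv)
open Groth.L22.CurveDeg.Det (IsBasisS)

variable {X : Scheme.{u}}

/-- The affine opens inside `W` cover it. -/
theorem exists_affine_mem (W : X.Opens) {x : X} (hx : x ∈ W) : ∃ V : X.affineOpens, x ∈ V.1 ∧ V.1 ≤ W := by
  obtain ⟨_, ⟨V, hV, rfl⟩, hxV, hVW⟩ := X.isBasis_affineOpens.exists_subset_of_mem_open hx W.2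
  exact ⟨⟨V, hV⟩, hxV, hVW⟩

/-- Sections agreeing on affine opens agree. -/
theorem ext_affine (N : X.Modules) {W : X.Opens} {s t : Γ(N, W)}
    (h : ∀ (V : X.affineOpens) (hV : V.1 ≤ W), rs N hV s = rs N hV t) : s = t :=
  ext_cover N (fun V : {V : X.affineOpens // V.1 ≤ W} => V.1.1) (fun V => V.2)
    (fun x hx => by
      obtain ⟨V, hxV, hVW⟩ := exists_affine_mem W hx
      exact Opens.mem_iSup.mpr ⟨⟨V, hVW⟩, hxV⟩)
    fun V => h V.1 V.2

/-- A section from compatible values on affine opens. -/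
theorem exists_of_affine (N : X.Modules) (W : X.Opens) (v : ∀ (V : X.affineOpens), V.1 ≤ W → Γ(N, V.1))
    (hv : ∀ (V V' : X.affineOpens) (hV : V.1 ≤ W) (h : V'.1 ≤ V.1), rs N h (v V hV) = v V' (h.trans hV)) :
    ∃ y : Γ(N, W), ∀ (V : X.affineOpens) (hV : V.1 ≤ W), rs N hV y = v V hV := by
  obtain ⟨y, hy⟩ := exists_glue N (fun V : {V : X.affineOpens // V.1 ≤ W} => V.1.1) (fun V => V.2)
    (fun x hx => by
      obtain ⟨V, hxV, hVW⟩ := exists_affine_mem W hx
      exact Opens.mem_iSup.mpr ⟨⟨V, hVW⟩, hxV⟩)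
    (fun V => v V.1 V.2) fun A B => ext_affine N fun V hV => by
      rw [rs_rs, rs_rs, hv A.1 V A.2, hv B.1 V B.2]
  exact ⟨y, fun V hV => hy ⟨V, hV⟩⟩

variable {E L L' D : X.Modules} {a b n : ℕ}
  (φa : ∀ U : X.affineOpens,
    (L.val.obj (op U.1)) ≃ₗ[Γ(X, U.1)] ↥(⋀[Γ(X, U.1)]^a (E.val.obj (op U.1))))
  (φb : ∀ U : X.affineOpens,
    (L'.val.obj (op U.1)) ≃ₗ[Γ(X, U.1)] ↥(⋀[Γ(X, U.1)]^b (E.val.obj (op U.1))))
  (φn : ∀ U : X.affineOpens,
    (D.val.obj (op U.1)) ≃ₗ[Γ(X, U.1)] ↥(⋀[Γ(X, U.1)]^n (E.val.obj (op U.1))))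
  (h : a + b = n)

/-- The pairing on an affine open. -/
def pr (U : X.affineOpens) :
    (L'.val.obj (op U.1)) →ₗ[Γ(X, U.1)] (L.val.obj (op U.1)) →ₗ[Γ(X, U.1)] (D.val.obj (op U.1)) :=
  ((LinearEquiv.arrowCongr (φa U).symm (φn U).symm).toLinearMap ∘ₗ (mulW h).flip) ∘ₗ (φb U).toLinearMap

/-- The pairing of sections. -/
def prS (U : X.affineOpens) (y : Γ(L', U.1)) (x : Γ(L, U.1)) : Γ(D, U.1) := pr φa φb φn h U y x

theorem prS_def (U : X.affineOpens) (y : Γ(L', U.1)) (x : Γ(L, U.1)) :
    prS φa φb φn h U y x = (φn U).symm (mulW h (φa U x) (φb U y)) := rfl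

theorem prS_add_left (U : X.affineOpens) (y y' : Γ(L', U.1)) (x : Γ(L, U.1)) :
    prS φa φb φn h U (y + y') x = prS φa φb φn h U y x + prS φa φb φn h U y' x :=
  LinearMap.congr_fun (map_add (pr φa φb φn h U) y y') x

theorem prS_add_right (U : X.affineOpens) (y : Γ(L', U.1)) (x x' : Γ(L, U.1)) :
    prS φa φb φn h U y (x + x') = prS φa φb φn h U y x + prS φa φb φn h U y x' :=
  map_add (pr φa φb φn h U y) x x'

theorem prS_smul_left (U : X.affineOpens) (r : Γ(X, U.1)) (y : Γ(L', U.1)) (x : Γ(L, U.1)) :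
    prS φa φb φn h U (r • y) x = r • prS φa φb φn h U y x :=
  LinearMap.congr_fun (map_smul (pr φa φb φn h U) r y) x

theorem prS_smul_right (U : X.affineOpens) (r : Γ(X, U.1)) (y : Γ(L', U.1)) (x : Γ(L, U.1)) :
    prS φa φb φn h U y (r • x) = r • prS φa φb φn h U y x :=
  map_smul (pr φa φb φn h U y) r x

theorem prS_zero_left (U : X.affineOpens) (x : Γ(L, U.1)) : prS φa φb φn h U 0 x = 0 :=
  LinearMap.congr_fun (map_zero (pr φa φb φn h U)) x

theorem prS_zero_right (U : X.affineOpens) (y : Γ(L', U.1)) : prS φa φb φn h U y 0 = 0 :=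
  map_zero (pr φa φb φn h U y)

theorem rs_add' (N : X.Modules) {U V : X.Opens} (hVU : V ≤ U) (x y : Γ(N, U)) :
    rs N hVU (x + y) = rs N hVU x + rs N hVU y := map_add (N.presheaf.map (homOfLE hVU).op).hom x y

theorem rs_zero' (N : X.Modules) {U V : X.Opens} (hVU : V ≤ U) : rs N hVU (0 : Γ(N, U)) = 0 :=
  map_zero (N.presheaf.map (homOfLE hVU).op).hom

variable (ha : ∀ (U V : X.affineOpens) (h : V.1 ≤ U.1) (e : Fin a → E.val.obj (op U.1)),
      L.val.map (homOfLE h).op ((φa U).symm (exteriorPower.ιMulti _ a e)) =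
        (φa V).symm (exteriorPower.ιMulti _ a (fun j => E.val.map (homOfLE h).op (e j))))
  (hb : ∀ (U V : X.affineOpens) (h : V.1 ≤ U.1) (e : Fin b → E.val.obj (op U.1)),
      L'.val.map (homOfLE h).op ((φb U).symm (exteriorPower.ιMulti _ b e)) =
        (φb V).symm (exteriorPower.ιMulti _ b (fun j => E.val.map (homOfLE h).op (e j))))
  (hn : ∀ (U V : X.affineOpens) (h : V.1 ≤ U.1) (e : Fin n → E.val.obj (op U.1)),
      D.val.map (homOfLE h).op ((φn U).symm (exteriorPower.ιMulti _ n e)) =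
        (φn V).symm (exteriorPower.ιMulti _ n (fun j => E.val.map (homOfLE h).op (e j))))

include ha hb hn in
theorem rs_prS (U V : X.affineOpens) (hVU : V.1 ≤ U.1) (y : Γ(L', U.1)) (x : Γ(L, U.1)) :
    rs D hVU (prS φa φb φn h U y x) = prS φa φb φn h V (rs L' hVU y) (rs L hVU x) := by
  let Q : Γ(L', U.1) → Γ(L, U.1) → Prop := fun y x =>
    rs D hVU (prS φa φb φn h U y x) = prS φa φb φn h V (rs L' hVU y) (rs L hVU x)
  have q0x : ∀ x, Q 0 x := fun x => by
    simp only [Q, prS_zero_left, rs_zero']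
  have qy0 : ∀ y, Q y 0 := fun y => by
    simp only [Q, prS_zero_right, rs_zero']
  have qadd : ∀ y y' x, Q y x → Q y' x → Q (y + y') x := fun y y' x h1 h2 => by
    simp only [Q, prS_add_left, rs_add'] at h1 h2 ⊢
    rw [h1, h2]
  have qadd' : ∀ y x x', Q y x → Q y x' → Q y (x + x') := fun y x x' h1 h2 => by
    simp only [Q, prS_add_right, rs_add'] at h1 h2 ⊢
    rw [h1, h2]
  have qsmul : ∀ (r : Γ(X, U.1)) y x, Q y x → Q (r • y) x := fun r y x h1 => by
    simp only [Q, prS_smul_left, rs_smul] at h1 ⊢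
    rw [h1]
  have qsmul' : ∀ (r : Γ(X, U.1)) y x, Q y x → Q y (r • x) := fun r y x h1 => by
    simp only [Q, prS_smul_right, rs_smul] at h1 ⊢
    rw [h1]
  have gen : ∀ (e : Fin a → E.val.obj (op U.1)) (f : Fin b → E.val.obj (op U.1)),
      Q ((φb U).symm (exteriorPower.ιMulti _ b f)) ((φa U).symm (exteriorPower.ιMulti _ a e)) := fun e f => by
    show rs D hVU _ = prS φa φb φn h V (L'.val.map (homOfLE hVU).op _) (L.val.map (homOfLE hVU).op _)
    rw [ha U V hVU, hb U V hVU, prS_def, prS_def]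
    simp only [LinearEquiv.apply_symm_apply]
    rw [mulW_ιMulti, mulW_ιMulti]
    refine (hn U V hVU _).trans (congrArg (φn V).symm (congrArg _ (funext fun i => ?_)))
    show _ = Fin.append _ _ (Fin.cast h.symm i)
    simp only [Function.comp_apply]
    generalize Fin.cast h.symm i = j
    induction j using Fin.addCases <;> simp
  show Q y x
  obtain ⟨x', rfl⟩ := (φa U).symm.surjective x
  have hx' : x' ∈ Submodule.span Γ(X, U.1)
      (Set.range (exteriorPower.ιMulti Γ(X, U.1) a (M := E.val.obj (op U.1)))) := by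
    rw [exteriorPower.ιMulti_span]; trivial
  induction hx' using Submodule.span_induction with
  | mem x hx =>
    obtain ⟨e, rfl⟩ := hx
    obtain ⟨y', rfl⟩ := (φb U).symm.surjective y
    have hy' : y' ∈ Submodule.span Γ(X, U.1)
        (Set.range (exteriorPower.ιMulti Γ(X, U.1) b (M := E.val.obj (op U.1)))) := by
      rw [exteriorPower.ιMulti_span]; trivial
    induction hy' using Submodule.span_induction with
    | mem y hy => obtain ⟨f, rfl⟩ := hy; exact gen e f
    | zero => exact (congrArg (Q · _) (map_zero (φb U).symm)).mpr (q0x _)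
    | add p q _ _ hp hq => exact (congrArg (Q · _) (map_add (φb U).symm p q)).mpr (qadd _ _ _ hp hq)
    | smul r p _ hp => exact (congrArg (Q · _) ((φb U).symm.map_smul r p)).mpr (qsmul r _ _ hp)
  | zero => exact (congrArg (Q y) (map_zero (φa U).symm)).mpr (qy0 _)
  | add p q _ _ hp hq => exact (congrArg (Q y) (map_add (φa U).symm p q)).mpr (qadd' _ _ _ hp hq)
  | smul r p _ hp => exact (congrArg (Q y) ((φa U).symm.map_smul r p)).mpr (qsmul' r _ _ hp)

include ha hb hn in
/-- The section of the sheaf of homomorphisms attached to a section over an affine open. -/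
theorem exists_sec (U : X.affineOpens) (y : Γ(L', U.1)) :
    ∃ σ : Sec L D U.1, ∀ (V : X.affineOpens) (hV : V.1 ≤ U.1) (x : Γ(L, V.1)),
      ev σ hV x = prS φa φb φn h V (rs L' hV y) x := by
  have key : ∀ (W : X.Opens) (hW : W ≤ U.1) (x : Γ(L, W)), ∃ z : Γ(D, W), ∀ (V : X.affineOpens) (hV : V.1 ≤ W),
      rs D hV z = prS φa φb φn h V (rs L' (hV.trans hW) y) (rs L hV x) := fun W hW x =>
    exists_of_affine D W (fun V hV => prS φa φb φn h V (rs L' (hV.trans hW) y) (rs L hV x))
      fun V V' hV h' => by rw [rs_prS φa φb φn h ha hb hn, rs_rs, rs_rs]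
  choose z hz using key
  have hadd : ∀ (W : X.Opens) (hW : W ≤ U.1) (x x' : Γ(L, W)), z W hW (x + x') = z W hW x + z W hW x' :=
    fun W hW x x' => ext_affine D fun V hV => by
      rw [hz, rs_add', rs_add', hz, hz, prS_add_right]
  refine ⟨⟨fun W => AddMonoidHom.mk' (z W.1 W.2) (hadd W.1 W.2), fun W W' hW h' x => ext_affine D fun V hV => ?_,
    fun W hW r x => ext_affine D fun V hV => ?_⟩, fun V hV x => ?_⟩
  · show rs D hV (rs D h' (z W hW x)) = rs D hV (z W' _ (rs L h' x))
    rw [rs_rs, hz, hz, rs_rs]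
  · show rs D hV (z W hW (r • x)) = rs D hV (r • z W hW x)
    rw [hz, rs_smul, rs_smul, hz]
    exact prS_smul_right φa φb φn h V _ _ _
  · show z V.1 hV x = _
    have := hz V.1 hV x V le_rfl
    rwa [rs_self, rs_self] at this

variable (L D) in
/-- Sections of the sheaf of homomorphisms agree if they agree on affine opens. -/
theorem sec_ext_affine {U : X.Opens} {σ τ : Sec L D U}
    (e : ∀ (V : X.affineOpens) (hV : V.1 ≤ U) (x : Γ(L, V.1)), ev σ hV x = ev τ hV x) : σ = τ :=
  sec_ext fun W hW x => ext_affine D fun V hV => by rw [ev_rs, ev_rs, e]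

include ha hb hn in
/-- The morphism to the sheaf of homomorphisms. -/
theorem exists_hom : ∃ α : L' ⟶ homMod L D, ∀ (U : X.affineOpens) (y : Γ(L', U.1)) (V : X.affineOpens)
    (hV : V.1 ≤ U.1) (x : Γ(L, V.1)),
      ev (secEquiv U.1 (α.app U.1 y)) hV x = prS φa φb φn h V (rs L' hV y) x := by
  choose σ hσ using exists_sec φa φb φn h ha hb hn
  let M := homMod L D
  have key : ∀ (W : X.Opens) (y : Γ(L', W)), ∃ z : Γ(M, W), ∀ (V : X.affineOpens) (hV : V.1 ≤ W),
      rs M hV z = (secEquiv V.1).symm (σ V (rs L' hV y)) := fun W y =>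
    exists_of_affine M W (fun V hV => (secEquiv V.1).symm (σ V (rs L' hV y))) fun V V' hV h' =>
      (secEquiv V'.1).injective (sec_ext_affine L D fun V'' hV'' x => by
        show ev (σ V (rs L' hV y)) (hV''.trans h') x = ev (σ V' (rs L' (h'.trans hV) y)) hV'' x
        rw [hσ, hσ, rs_rs, rs_rs])
  choose z hz using key
  have hev : ∀ (W : X.Opens) (y : Γ(L', W)) (V : X.affineOpens) (hV : V.1 ≤ W) (x : Γ(L, V.1)),
      ev (secEquiv W (z W y)) hV x = prS φa φb φn h V (rs L' hV y) x := fun W y V hV x => by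
    have h1 := congrArg (fun s => ev (secEquiv V.1 s) le_rfl x) (hz W y V hV)
    simp only [LinearEquiv.apply_symm_apply] at h1
    rw [hσ, rs_self] at h1
    exact h1
  have hext : ∀ (W : X.Opens) (s t : Γ(M, W)), (∀ (V : X.affineOpens) (hV : V.1 ≤ W) (x : Γ(L, V.1)),
      ev (secEquiv W s) hV x = ev (secEquiv W t) hV x) → s = t := fun W s t e =>
    (secEquiv W).injective (sec_ext_affine L D e)
  refine ⟨⟨PresheafOfModules.homMk
    { app := fun W => AddCommGrpCat.ofHom (AddMonoidHom.mk' (z W.unop) fun y y' => hext _ _ _ fun V hV x => ?_)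
      naturality := fun W W' f => AddCommGrpCat.ext fun y => hext _ _ _ fun V hV x => ?_ }
    (fun W r y => hext _ _ _ fun V hV x => ?_)⟩, fun U y V hV x => hev U.1 y V hV x⟩
  · rw [hev, map_add, rs_add', prS_add_left]
    show _ = ev (secEquiv _ (z _ y)) hV x + ev (secEquiv _ (z _ y')) hV x
    rw [hev, hev]
  · show ev (secEquiv _ (z W'.unop (rs L' f.unop.le y))) hV x = ev (secEquiv _ (z W.unop y)) (hV.trans f.unop.le) x
    rw [hev, hev, rs_rs]
  · show ev (secEquiv _ (z W.unop ((show Γ(X, W.unop) from r) • y))) hV x =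
      ev (secEquiv _ ((show Γ(X, W.unop) from r) • z W.unop y)) hV x
    rw [hev, map_smul, ev_smulSec, hev, rs_smul]
    exact prS_smul_left φa φb φn h V _ _ _

/-- The basis of sections over an open. -/
def basisOf {U : X.Opens} {e : Fin n → Γ(E, U)} (he : IsBasisS E e) {V : X.Opens} (hV : V ≤ U) :
    Module.Basis (Fin n) Γ(X, V) (E.val.obj (op V)) :=
  Module.Basis.ofEquivFun (LinearEquiv.ofBijective
    (Fintype.linearCombination Γ(X, V) (M := E.val.obj (op V)) (fun j => rs E hV (e j))) (he V hV)).symm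

theorem basisOf_apply {U : X.Opens} {e : Fin n → Γ(E, U)} (he : IsBasisS E e) {V : X.Opens} (hV : V ≤ U)
    (j : Fin n) : basisOf he hV j = rs E hV (e j) := by
  classical
  rw [basisOf, Module.Basis.coe_ofEquivFun]
  exact (Fintype.linearCombination_apply_single _ _ _ _).trans (one_smul _ _)

include ha in
/-- The restrictions of a basis of an exterior power. -/
theorem rs_basis {U : X.affineOpens} {e : Fin n → Γ(E, U.1)} (he : IsBasisS E e) (V : X.affineOpens)
    (hV : V.1 ≤ U.1) (S : Set.powersetCard (Fin n) a) :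
    rs L hV ((φa U).symm ((basisOf he le_rfl).exteriorPower a S)) =
      (φa V).symm ((basisOf he hV).exteriorPower a S) := by
  rw [exteriorPower.basis_apply, exteriorPower.basis_apply, exteriorPower.ιMulti_family,
    exteriorPower.ιMulti_family]
  refine (ha U V hV _).trans (congrArg (φa V).symm (congrArg _ (funext fun j => ?_)))
  simp only [Function.comp_apply, basisOf_apply]
  exact rs_rs E le_rfl hV _

include ha hb hn in
/-- The pairing is bijective over an affine open with a basis. -/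
theorem bijective_app {α : L' ⟶ homMod L D} (hα : ∀ (U : X.affineOpens) (y : Γ(L', U.1)) (V : X.affineOpens)
    (hV : V.1 ≤ U.1) (x : Γ(L, V.1)), ev (secEquiv U.1 (α.app U.1 y)) hV x = prS φa φb φn h V (rs L' hV y) x)
    (U : X.affineOpens) {e : Fin n → Γ(E, U.1)} (he : IsBasisS E e) : Function.Bijective (α.app U.1) := by
  let B := basisOf he le_rfl
  have hev : ∀ y x, ev (secEquiv U.1 (α.app U.1 y)) le_rfl x = prS φa φb φn h U y x := fun y x => by
    rw [hα, rs_self]
  refine ⟨fun y y' hy => ?_, fun s => ?_⟩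
  · refine (φb U).injective ((bijective_pairing h B).1 (LinearMap.ext fun x => ?_))
    obtain ⟨x', rfl⟩ := (φa U).surjective x
    have h1 := congrArg (fun s => ev (secEquiv U.1 s) le_rfl x') hy
    simp only at h1
    rw [hev, hev, prS_def, prS_def] at h1
    exact (φn U).symm.injective h1
  · let σ := secEquiv U.1 s
    let g : (L.val.obj (op U.1)) →ₗ[Γ(X, U.1)] (D.val.obj (op U.1)) :=
      { toFun := ev σ le_rfl, map_add' := map_add _, map_smul' := fun r x => ev_smul σ le_rfl r x }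
    obtain ⟨z, hz⟩ := (bijective_pairing h B).2 ((φn U).toLinearMap ∘ₗ g ∘ₗ (φa U).symm.toLinearMap)
    refine ⟨(φb U).symm z, (secEquiv U.1).injective (sec_ext_affine L D fun V hV x => ?_)⟩
    have h1 : ∀ x : Γ(L, U.1), ev (secEquiv U.1 (α.app U.1 ((φb U).symm z))) le_rfl x = ev σ le_rfl x := fun x => by
      rw [hev, prS_def, LinearEquiv.apply_symm_apply]
      refine (congrArg (φn U).symm (LinearMap.congr_fun hz (φa U x))).trans ?_
      simp [g]
    obtain ⟨x', rfl⟩ := (φa V).symm.surjective x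
    rw [← ((basisOf he hV).exteriorPower a).sum_repr x', map_sum, map_sum, map_sum]
    refine Finset.sum_congr rfl fun S _ => ?_
    rw [map_smul, ev_smul, ev_smul, ← rs_basis φa ha he V hV S, ← ev_rs _ le_rfl hV, ← ev_rs _ le_rfl hV, h1]

include h ha hb hn in
/-- `Hom(∧^a E, ∧^n E) ≅ ∧^b E`. -/
theorem nonempty_iso_homMod (hE : FlatMod.IsFinLocFreeOfRank n E) : Nonempty (L' ≅ homMod L D) := by
  obtain ⟨α, hα⟩ := exists_hom φa φb φn h ha hb hn
  let G := {U : X.affineOpens // ∃ e : Fin n → Γ(E, U.1), IsBasisS E e}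
  have hG : ∀ (W : X.Opens) (x : X), x ∈ W → ∃ U : G, x ∈ U.1.1 ∧ U.1.1 ≤ W := fun W x hx => by
    obtain ⟨U, e, hxU, hUW, he⟩ := Groth.L22.CurveDeg.Det.exists_affine_basis hE x W hx
    exact ⟨⟨U, e, he⟩, hxU, hUW⟩
  have hb' : ∀ U : G, Function.Bijective (α.app U.1.1) := fun U =>
    bijective_app φa φb φn h ha hb hn hα U.1 U.2.choose_spec
  have hinj : ∀ W : X.Opens, Function.Injective (α.app W) := fun W s t hst => by
    refine ext_cover L' (fun U : {U : G // U.1.1 ≤ W} => U.1.1.1) (fun U => U.2)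
      (fun x hx => by
        obtain ⟨U, hxU, hUW⟩ := hG W x hx
        exact Opens.mem_iSup.mpr ⟨⟨U, hUW⟩, hxU⟩) fun U => (hb' U.1).1 ?_
    rw [Groth.L18.IsoCover.app_rs', Groth.L18.IsoCover.app_rs', hst]
  have hsurj : ∀ W : X.Opens, Function.Surjective (α.app W) := fun W t => by
    choose y hy using fun U : {U : G // U.1.1 ≤ W} => (hb' U.1).2 (rs (homMod L D) U.2 t)
    have hcov : W ≤ iSup fun U : {U : G // U.1.1 ≤ W} => U.1.1.1 := fun x hx => by
      obtain ⟨U, hxU, hUW⟩ := hG W x hx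
      exact Opens.mem_iSup.mpr ⟨⟨U, hUW⟩, hxU⟩
    obtain ⟨s, hs⟩ := exists_glue L' (fun U : {U : G // U.1.1 ≤ W} => U.1.1.1) (fun U => U.2) hcov y fun A B => by
      refine hinj _ ?_
      rw [Groth.L18.IsoCover.app_rs', Groth.L18.IsoCover.app_rs', hy, hy, rs_rs, rs_rs]
    refine ⟨s, ext_cover (homMod L D) (fun U : {U : G // U.1.1 ≤ W} => U.1.1.1) (fun U => U.2) hcov fun U => ?_⟩
    rw [← Groth.L18.IsoCover.app_rs', hs, hy]
  haveI : IsIso α := Groth.L18.IsoCover.isIso_of_bijective α (ι := Unit) (fun _ => ⊤) (fun x => ⟨(), trivial⟩)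
    fun _ V _ => ⟨hinj V, hsurj V⟩
  exact ⟨asIso α⟩

/-- Sections forming a basis on the affine opens form a basis on all opens. -/
theorem isBasisOn_of_affine {M : X.Modules} {W : X.Opens} {m : ℕ} (v : Fin m → Γ(M, W))
    (hv : ∀ (V : X.affineOpens) (hV : V.1 ≤ W), Function.Bijective (Groth.L19.ProjBdl.lc M v hV)) :
    Groth.L19.ProjBdl.IsBasisOn M W v := fun V hV => by
  refine ⟨fun c c' hc => funext fun i => ?_, fun s => ?_⟩
  · refine ext_cover (Coh.structureModule X) (fun U : {U : X.affineOpens // U.1 ≤ V} => U.1.1) (fun U => U.2)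
      (fun x hx => by
        obtain ⟨U, hxU, hUV⟩ := exists_affine_mem V hx
        exact Opens.mem_iSup.mpr ⟨⟨U, hUV⟩, hxU⟩) fun U => ?_
    refine congrFun ((hv U.1 (U.2.trans hV)).1 (a₁ := fun i => ro U.2 (c i)) (a₂ := fun i => ro U.2 (c' i)) ?_) i
    rw [← Groth.L19.ProjBdl.rs_lc v hV U.2, ← Groth.L19.ProjBdl.rs_lc v hV U.2, hc]
  · choose c hc using fun (U : X.affineOpens) (hU : U.1 ≤ V) => (hv U (hU.trans hV)).2 (rs M hU s)
    choose d hd using fun i => exists_of_affine (Coh.structureModule X) V (fun U hU => c U hU i)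
      fun U U' hU h' => by
        refine congrFun ((hv U' (h'.trans (hU.trans hV))).1 (a₁ := fun i => ro h' (c U hU i))
          (a₂ := c U' (h'.trans hU)) ?_) i
        rw [← Groth.L19.ProjBdl.rs_lc v (hU.trans hV) h', hc, hc, rs_rs]
    refine ⟨d, ext_affine M fun U hU => ?_⟩
    rw [Groth.L19.ProjBdl.rs_lc, ← hc U hU]
    exact congrArg _ (funext fun i => hd i U hU)

include ha in
/-- Exterior powers of finite locally free modules are finite locally free. -/
theorem isFinLocFree_extPow (hE : FlatMod.IsFinLocFreeOfRank n E) : FlatMod.IsFinLocFree L :=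
  Groth.L16.HomSh.isFinLocFree_of_bases fun x => by
    obtain ⟨U, e, hxU, -, he⟩ := Groth.L22.CurveDeg.Det.exists_affine_basis hE x ⊤ trivial
    let g := (Fintype.equivFin (Set.powersetCard (Fin n) a)).symm
    refine ⟨U.1, _, fun i => (φa U).symm ((basisOf he le_rfl).exteriorPower a (g i)), hxU,
      isBasisOn_of_affine _ fun V hV => ?_⟩
    have h1 := (φa V).symm.bijective.comp
      ((((basisOf he hV).exteriorPower a).reindex g.symm).equivFun.symm.bijective)
    refine (congrArg Function.Bijective (funext fun r => ?_)).mp h1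
    show (φa V).symm (((((basisOf he hV).exteriorPower a).reindex g.symm).equivFun.symm) r) = _
    rw [Module.Basis.equivFun_symm_apply, map_sum]
    refine Finset.sum_congr rfl fun i _ => ?_
    rw [map_smul, Module.Basis.reindex_apply, Equiv.symm_symm, rs_basis φa ha he V hV]

end Groth.L22.WedgePair
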