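import Groth.Agent.L22.CurveDeg.Det.Alg
import Mathlib.LinearAlgebra.ExteriorPower.Basis

/-!
The product pairing of exterior powers, and its perfectness for free modules.
-/

set_option autoImplicit false
universe u v

noncomputable section

namespace Groth.L22.WedgePair

open Module Set Set.powersetCard

variable {R : Type u} [CommRing R] {M : Type v} [AddCommGroup M] [Module R M] {a b c : ℕ}

/-- The product of exterior powers. -/
def mulW (h : a + b = c) : ⋀[R]^a M →ₗ[R] ⋀[R]^b M →ₗ[R] ⋀[R]^c M :=
  LinearMap.mk₂ R (fun x y => ⟨x.1 * y.1, by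
      subst h
      show _ ∈ LinearMap.range (ExteriorAlgebra.ι R (M := M)) ^ (a + b)
      rw [pow_add]
      exact Submodule.mul_mem_mul x.2 y.2⟩)
    (fun x x' y => Subtype.ext (add_mul x.1 x'.1 y.1))
    (fun r x y => Subtype.ext (smul_mul_assoc r x.1 y.1))
    (fun x y y' => Subtype.ext (mul_add x.1 y.1 y'.1))
    (fun r x y => Subtype.ext (mul_smul_comm r x.1 y.1))

theorem mulW_ιMulti (h : a + b = c) (e : Fin a → M) (f : Fin b → M) :
    mulW h (exteriorPower.ιMulti R a e) (exteriorPower.ιMulti R b f) =
      exteriorPower.ιMulti R c (Fin.append e f ∘ Fin.cast h.symm) := by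
  subst h
  refine Subtype.ext ?_
  show ExteriorAlgebra.ιMulti R a e * ExteriorAlgebra.ιMulti R b f = _
  rw [ExteriorAlgebra.ιMulti_mul_ιMulti]
  rfl

/-- Linear combinations of the products of the members of a basis and their complements. -/
theorem bijective_pairing {n : ℕ} (h : a + b = n) (B : Module.Basis (Fin n) R M) :
    Function.Bijective ((mulW (R := R) (M := M) h).flip) := by
  classical
  let cpl : powersetCard (Fin n) a ≃ powersetCard (Fin n) b :=
    Set.powersetCard.compl (α := Fin n) (n := a) (m := b) (by rw [Fintype.card_fin]; omega)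
  let X := B.exteriorPower a
  let Y := B.exteriorPower b
  let ω := exteriorPower.ιMulti R n B
  have hω : Function.Bijective fun r : R => r • ω :=
    Groth.L22.CurveDeg.Det.bijective_smul_wedge (B : Fin n → M)
      (by
        have h1 : Function.Bijective fun r : Fin n → R => B.equivFun.symm r := B.equivFun.symm.bijective
        simpa only [Module.Basis.equivFun_symm_apply] using h1)
  have hne : ∀ (S : powersetCard (Fin n) a) (T : powersetCard (Fin n) b), T ≠ cpl S →
      mulW h (X S) (Y T) = 0 := fun S T hT => by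
    obtain ⟨i, hi, hi'⟩ : ∃ i, i ∈ S ∧ i ∈ T := by
      by_contra hcon
      push Not at hcon
      refine hT (Subtype.ext ?_)
      refine (Finset.eq_of_subset_of_card_le (fun i hi => ?_) ?_)
      · exact Finset.mem_compl.2 fun hiS => hcon i hiS hi
      · exact le_of_eq ((cpl S).2.trans T.2.symm)
    obtain ⟨j, hj⟩ := (mem_range_ofFinEmbEquiv_symm_iff_mem S i).mpr hi
    obtain ⟨l, hl⟩ := (mem_range_ofFinEmbEquiv_symm_iff_mem T i).mpr hi'
    rw [exteriorPower.basis_apply, exteriorPower.basis_apply, exteriorPower.ιMulti_family,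
      exteriorPower.ιMulti_family, mulW_ιMulti]
    refine (exteriorPower.ιMulti R n).map_eq_zero_of_eq _
      (i := Fin.cast h (Fin.castAdd b j)) (j := Fin.cast h (Fin.natAdd a l)) ?_ ?_
    · simp only [Function.comp_apply, Fin.cast_cast, Fin.cast_eq_self, Fin.append_left, Fin.append_right, hj, hl]
    · intro hcon
      have := congrArg Fin.val hcon
      simp only [Fin.val_cast, Fin.val_castAdd, Fin.val_natAdd] at this
      have := j.2
      omega
  have heq : ∀ S : powersetCard (Fin n) a, ∃ u : Rˣ, mulW h (X S) (Y (cpl S)) = (u : R) • ω := fun S => by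
    let e := ofFinEmbEquiv.symm S
    let f := ofFinEmbEquiv.symm (cpl S)
    let σ : Fin n → Fin n := Fin.append e f ∘ Fin.cast h.symm
    have hinj : Function.Injective σ := by
      refine (Fin.append_injective_iff.2 ⟨e.injective, f.injective, fun x y hxy => ?_⟩).comp
        (finCongr h.symm).injective
      have h1 : e x ∈ S := (mem_range_ofFinEmbEquiv_symm_iff_mem S _).1 ⟨x, rfl⟩
      have h2 : f y ∈ cpl S := (mem_range_ofFinEmbEquiv_symm_iff_mem (cpl S) _).1 ⟨y, rfl⟩
      exact (Set.powersetCard.mem_compl.1 h2) (hxy ▸ h1)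
    let π : Equiv.Perm (Fin n) := Equiv.ofBijective σ (Finite.injective_iff_bijective.1 hinj)
    refine ⟨(Equiv.Perm.sign π).map (Int.castRingHom R), ?_⟩
    rw [exteriorPower.basis_apply, exteriorPower.basis_apply, exteriorPower.ιMulti_family,
      exteriorPower.ιMulti_family, mulW_ιMulti]
    have hfun : Fin.append (B ∘ e) (B ∘ f) ∘ Fin.cast h.symm = B ∘ π := by
      funext i
      show Fin.append (B ∘ e) (B ∘ f) (Fin.cast h.symm i) = B (Fin.append e f (Fin.cast h.symm i))
      generalize Fin.cast h.symm i = j
      induction j using Fin.addCases <;> simp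
    rw [hfun, AlternatingMap.map_perm]
    rw [Units.smul_def, ← Int.cast_smul_eq_zsmul R]
    rfl
  choose u hu using heq
  have hval : ∀ (y : ⋀[R]^b M) (S : powersetCard (Fin n) a),
      mulW h (X S) y = (Y.repr y (cpl S) * (u S : R)) • ω := fun y S => by
    conv_lhs => rw [← Y.sum_repr y]
    rw [map_sum, Finset.sum_eq_single (cpl S) (fun T _ hT => by rw [map_smul, hne S T hT, smul_zero])
      (fun hn => absurd (Finset.mem_univ _) hn), map_smul, hu, smul_smul]
  refine ⟨fun y y' hy => Y.repr.injective (Finsupp.ext fun T => ?_), fun φ => ?_⟩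
  · obtain ⟨S, rfl⟩ := cpl.surjective T
    have h1 : mulW h (X S) y = mulW h (X S) y' := LinearMap.congr_fun hy (X S)
    rw [hval, hval] at h1
    exact (u S).isUnit.mul_left_inj.1 (hω.1 h1)
  · choose r hr using fun S => hω.2 (φ (X S))
    refine ⟨∑ S, (r S * (↑(u S)⁻¹ : R)) • Y (cpl S), X.ext fun S => ?_⟩
    show mulW h (X S) _ = _
    rw [map_sum, Finset.sum_eq_single S (fun S' _ hS => by
        rw [map_smul, hne S _ (fun e => hS (cpl.injective e)), smul_zero])
      (fun hn => absurd (Finset.mem_univ _) hn), map_smul, hu, smul_smul, mul_assoc, Units.inv_mul, mul_one]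
    exact hr S

end Groth.L22.WedgePair
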